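import Mathlib

universe u
open CategoryTheory AlgebraicGeometry

namespace Groth.Agent.SmallH9f

theorem point_in_affine (B : Type u) [CommRing B] [TopologicalSpace B]
    [IsTopologicalRing B] (hB : IsOpen {b : B | IsUnit b})
    (B₀ : Type u) [CommRing B₀] (φ : B₀ →+* B) (hφ : DenseRange φ)
    (X : Scheme.{u}) [X.IsQuasiAffine] (p : X ⟶ Spec (CommRingCat.of B₀))
    (f : Spec (CommRingCat.of B) ⟶ X) (hf : f ≫ p = Spec.map (CommRingCat.ofHom φ)) :
    ∃ U : X.Opens, IsAffineOpen U ∧ Set.range f.base ⊆ (U : Set X) := by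
  classical
  -- basic opens inside the image of `X` in `Spec Γ(X)`
  have hbas : ∀ x : X, ∃ r : Γ(X, ⊤), X.toSpecΓ x ∈ PrimeSpectrum.basicOpen r ∧
      (PrimeSpectrum.basicOpen r : Set (PrimeSpectrum Γ(X, ⊤))) ⊆ Set.range X.toSpecΓ := by
    intro x
    obtain ⟨_, ⟨r, rfl⟩, hxr, hr⟩ := (PrimeSpectrum.isTopologicalBasis_basic_opens
      (R := Γ(X, ⊤))).exists_subset_of_mem_open (Set.mem_range_self x)
        X.toSpecΓ.isOpenEmbedding.isOpen_range
    exact ⟨r, hxr, hr⟩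
  choose r hxr hr using hbas
  obtain ⟨s, hs⟩ := isCompact_univ.elim_finite_subcover
    (fun x : X => (X.basicOpen (r x) : Set X)) (fun x => (X.basicOpen (r x)).2)
    (fun x _ => Set.mem_iUnion.2 ⟨x, by
      change x ∈ X.basicOpen (r x)
      rw [← Scheme.toSpecΓ_preimage_basicOpen]; exact hxr x⟩)
  let ψ : Γ(X, ⊤) →+* B := (f.appTop ≫ (Scheme.ΓSpecIso (CommRingCat.of B)).hom).hom
  let pS : B₀ →+* Γ(X, ⊤) := ((Scheme.ΓSpecIso (CommRingCat.of B₀)).inv ≫ p.appTop).hom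
  have hψ : ∀ c, ψ (pS c) = φ c := by
    have h1 : ((Scheme.ΓSpecIso (CommRingCat.of B₀)).inv ≫ p.appTop) ≫
        (f.appTop ≫ (Scheme.ΓSpecIso (CommRingCat.of B)).hom) = CommRingCat.ofHom φ := by
      rw [Category.assoc, ← Category.assoc p.appTop, ← Scheme.Hom.comp_appTop, hf,
        Scheme.ΓSpecIso_naturality, Iso.inv_hom_id_assoc]
    intro c
    exact congrArg (fun g => g.hom c) h1
  have hspan : Ideal.span (Set.range fun i : s => ψ (r i.1)) = ⊤ := by
    by_contra h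
    obtain ⟨m, hm, hle⟩ := Ideal.exists_le_maximal _ h
    let P : Spec (CommRingCat.of B) := ⟨m, hm.isPrime⟩
    obtain ⟨x, hx, hP⟩ := Set.mem_iUnion₂.1 (hs (Set.mem_univ (f P)))
    have hP' : P ∈ f ⁻¹ᵁ X.basicOpen (r x) := hP
    rw [Scheme.preimage_basicOpen_top, basicOpen_eq_of_affine'] at hP'
    exact hP' (hle (Ideal.subset_span ⟨⟨x, hx⟩, rfl⟩))
  obtain ⟨b, hb⟩ := Ideal.mem_span_range_iff_exists_fun.1 (hspan.symm ▸ Submodule.mem_top (x := (1:B)))
  -- approximate the coefficients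
  let W : Set (s → B) := {c | IsUnit (∑ i, c i * ψ (r i.1))}
  have hW : IsOpen W := hB.preimage (by fun_prop)
  have hd : DenseRange (fun c : s → B₀ => fun i => φ (c i)) :=
    DenseRange.piMap (fun _ => hφ)
  obtain ⟨c, hc⟩ := hd.exists_mem_open hW ⟨b, show IsUnit (∑ i, b i * ψ (r i.1)) by rw [hb]; exact isUnit_one⟩
  let g : Γ(X, ⊤) := ∑ i, pS (c i) * r i.1
  have hg : IsUnit (ψ g) := by
    simp only [g, map_sum, map_mul, hψ]
    exact hc
  refine ⟨X.basicOpen g, ?_, ?_⟩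
  · rw [← Scheme.toSpecΓ_preimage_basicOpen]
    refine (IsAffineOpen.Spec_basicOpen g).preimage_of_isOpenImmersion X.toSpecΓ fun P hP => ?_
    have : ∃ i : s, P ∈ PrimeSpectrum.basicOpen (r i.1) := by
      by_contra h
      push Not at h
      refine hP (sum_mem fun i _ => Ideal.mul_mem_left _ _ ?_)
      exact not_not.1 (h i)
    obtain ⟨i, hi⟩ := this
    exact hr i.1 hi
  · rintro _ ⟨P, rfl⟩
    change P ∈ f ⁻¹ᵁ X.basicOpen g
    rw [Scheme.preimage_basicOpen_top, basicOpen_eq_of_affine']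
    intro hP
    exact P.2.ne_top (Ideal.eq_top_of_isUnit_mem _ hP hg)

end Groth.Agent.SmallH9f
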