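import Mathlib

universe u
open TensorProduct

namespace Groth.Agent.SmallH9f

theorem directLimit_base_change {ι : Type u} [Preorder ι]
    [Nonempty ι] [IsDirectedOrder ι] (G : ι → Type u) [∀ i, CommRing (G i)]
    (f : ∀ i j, i ≤ j → G i →+* G j) [DirectedSystem G (fun i j h => f i j h)]
    (A : Type u) [CommRing A] [∀ i, Algebra A (G i)]
    (hf : ∀ i j (h : i ≤ j), (f i j h).comp (algebraMap A (G i)) = algebraMap A (G j)) (l : ι)
    (B C : Type u) [CommRing B] [CommRing C] [Algebra A B] [Algebra A C] :
    letI : Algebra A (Ring.DirectLimit G (fun i j h => f i j h)) :=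
      ((Ring.DirectLimit.of G (fun i j h => f i j h) l).comp (algebraMap A (G l))).toAlgebra
    (Algebra.FiniteType A B → ∀ u u' : B →ₐ[A] C,
        Algebra.TensorProduct.map (AlgHom.id A (Ring.DirectLimit G (fun i j h => f i j h))) u =
            Algebra.TensorProduct.map (AlgHom.id A (Ring.DirectLimit G (fun i j h => f i j h))) u' →
          ∃ i : ι, Algebra.TensorProduct.map (AlgHom.id A (G i)) u =
            Algebra.TensorProduct.map (AlgHom.id A (G i)) u') ∧
      (Algebra.FiniteType A C → ∀ u : B →ₐ[A] C,
        Function.Surjective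
            (Algebra.TensorProduct.map (AlgHom.id A (Ring.DirectLimit G (fun i j h => f i j h))) u) →
          ∃ i : ι, Function.Surjective (Algebra.TensorProduct.map (AlgHom.id A (G i)) u)) := by
  classical
  letI : Algebra A (Ring.DirectLimit G (fun i j h => f i j h)) :=
      ((Ring.DirectLimit.of G (fun i j h => f i j h) l).comp (algebraMap A (G l))).toAlgebra
  let R := Ring.DirectLimit G (fun i j h => f i j h)
  let ta : ∀ i j, i ≤ j → (G i →ₐ[A] G j) := fun i j h =>
    { f i j h with commutes' := fun a => RingHom.congr_fun (hf i j h) a }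
  let t : ∀ i j, i ≤ j → G i →ₗ[A] G j := fun i j h => (ta i j h).toLinearMap
  let oa : ∀ i, G i →ₐ[A] R := fun i =>
    { Ring.DirectLimit.of G (fun i j h => f i j h) i with
        commutes' := fun a => by
          obtain ⟨k, hik, hlk⟩ := exists_ge_ge i l
          change Ring.DirectLimit.of G (fun i j h => f i j h) i (algebraMap A (G i) a) =
            Ring.DirectLimit.of G (fun i j h => f i j h) l (algebraMap A (G l) a)
          rw [← Ring.DirectLimit.of_f (G := G) hik, ← Ring.DirectLimit.of_f (G := G) hlk]
          exact congrArg _ ((RingHom.congr_fun (hf i k hik) a).trans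
            (RingHom.congr_fun (hf l k hlk) a).symm) }
  let o : ∀ i, G i →ₗ[A] R := fun i => (oa i).toLinearMap
  have hot : ∀ i j h (z : G i), o j (t i j h z) = o i z := fun i j h z =>
    Ring.DirectLimit.of_f (G := G) (f := fun i j h => f i j h) h z
  haveI : DirectedSystem G (fun i j h => ⇑(t i j h)) :=
    ⟨fun i x => DirectedSystem.map_self' (f := fun i j h => f i j h) x,
     fun k j i h h' x => DirectedSystem.map_map' (f := fun i j h => f i j h) h h' x⟩
  let e : Module.DirectLimit G t →ₗ[A] R := Module.DirectLimit.lift A ι G t o hot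
  have he : Function.Bijective e := by
    constructor
    · rw [injective_iff_map_eq_zero]
      intro x hx
      obtain ⟨i, y, rfl⟩ := Module.DirectLimit.exists_of x
      rw [Module.DirectLimit.lift_of] at hx
      obtain ⟨j, hij, hj⟩ := Ring.DirectLimit.of.zero_exact (G := G) (f' := fun i j h => f i j h) hx
      rw [← Module.DirectLimit.of_f (hij := hij)]
      change Module.DirectLimit.of A ι G t j (f i j hij y) = 0
      rw [hj, map_zero]
    · intro x
      obtain ⟨i, y, rfl⟩ := Ring.DirectLimit.exists_of (G := G) (f := fun i j h => f i j h) x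
      exact ⟨Module.DirectLimit.of A ι G t i y, Module.DirectLimit.lift_of _ _ _⟩
  -- zero in the limit means zero at a later stage
  have hzero : ∀ (M : Type u) [AddCommGroup M] [Module A M] (i : ι) (y : G i ⊗[A] M),
      (o i).rTensor M y = 0 → ∃ j, ∃ h : i ≤ j, (t i j h).rTensor M y = 0 := by
    intro M _ _ i y hy
    haveI : DirectedSystem (fun i => G i ⊗[A] M) (fun i j h => ⇑((t i j h).rTensor M)) :=
      ⟨fun i x => by
        rw [show t i i le_rfl = LinearMap.id from LinearMap.ext fun z =>
          DirectedSystem.map_self' (f := fun i j h => f i j h) z, LinearMap.rTensor_id]; rfl,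
       fun k j i h h' x => by
        rw [← LinearMap.rTensor_comp_apply]
        congr 2
        exact LinearMap.ext fun z => DirectedSystem.map_map' (f := fun i j h => f i j h) h h' z⟩
    have h1 : (Module.DirectLimit.of A ι G t i).rTensor M y = 0 := by
      apply ((LinearEquiv.ofBijective e he).rTensor M).injective
      rw [map_zero]
      change e.rTensor M _ = 0
      rw [← LinearMap.rTensor_comp_apply]
      rw [show e ∘ₗ Module.DirectLimit.of A ι G t i = o i from
        LinearMap.ext fun z => Module.DirectLimit.lift_of (f := t) o hot z]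
      exact hy
    have h2 := congrArg (TensorProduct.directLimitLeft t M) h1
    rw [TensorProduct.directLimitLeft_rTensor_of, map_zero] at h2
    exact Module.DirectLimit.of.zero_exact h2
  -- every element comes from a stage
  have hstage : ∀ (M : Type u) [AddCommGroup M] [Module A M] (x : R ⊗[A] M),
      ∃ i, ∃ y : G i ⊗[A] M, (o i).rTensor M y = x := by
    intro M _ _ x
    induction x using TensorProduct.induction_on with
    | zero => exact ⟨l, 0, by simp⟩
    | tmul a c =>
      obtain ⟨i, a, rfl⟩ := Ring.DirectLimit.exists_of (G := G) (f := fun i j h => f i j h) a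
      exact ⟨i, a ⊗ₜ c, rfl⟩
    | add x y hx hy =>
      obtain ⟨i, x', rfl⟩ := hx
      obtain ⟨j, y', rfl⟩ := hy
      obtain ⟨k, hik, hjk⟩ := exists_ge_ge i j
      refine ⟨k, (t i k hik).rTensor M x' + (t j k hjk).rTensor M y', ?_⟩
      rw [map_add, ← LinearMap.rTensor_comp_apply, ← LinearMap.rTensor_comp_apply,
        show o k ∘ₗ t i k hik = o i from LinearMap.ext (hot i k hik),
        show o k ∘ₗ t j k hjk = o j from LinearMap.ext (hot j k hjk)]
  constructor
  · intro hB u u' huu
    obtain ⟨s, hs⟩ := hB.out
    have hb : ∀ b : B, ∃ j, ∀ k, j ≤ k → (1 : G k) ⊗ₜ[A] u b = (1 : G k) ⊗ₜ[A] u' b := by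
      intro b
      have h0 : (o l).rTensor C ((1 : G l) ⊗ₜ[A] (u b - u' b)) = 0 := by
        rw [LinearMap.rTensor_tmul, show o l 1 = 1 from map_one (oa l), tmul_sub, sub_eq_zero]
        exact AlgHom.congr_fun huu (1 ⊗ₜ b)
      obtain ⟨j, hj, h⟩ := hzero C l _ h0
      refine ⟨j, fun k hk => ?_⟩
      have h' := congrArg ((t j k hk).rTensor C) h
      rw [LinearMap.rTensor_tmul, LinearMap.rTensor_tmul, show t l j hj 1 = 1 from map_one (ta l j hj),
        show t j k hk 1 = 1 from map_one (ta j k hk), map_zero, tmul_sub, sub_eq_zero] at h'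
      exact h'
    choose j hj using hb
    obtain ⟨m, hm⟩ := Finset.exists_le (s.image j)
    refine ⟨m, Algebra.TensorProduct.ext (AlgHom.ext fun g => by simp) ?_⟩
    refine AlgHom.ext_of_adjoin_eq_top hs fun b hb => ?_
    exact hj b m (hm _ (Finset.mem_image_of_mem _ hb))
  · intro hC u hu
    obtain ⟨s, hs⟩ := hC.out
    have hc : ∀ c : C, ∃ j, ∀ k, j ≤ k →
        (1 : G k) ⊗ₜ[A] c ∈ (Algebra.TensorProduct.map (AlgHom.id A (G k)) u).range := by
      intro c
      obtain ⟨x, hx⟩ := hu (1 ⊗ₜ c)
      obtain ⟨i, y, rfl⟩ := hstage B x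
      have hcomm : ∀ (P P' : Type u) [CommRing P] [CommRing P'] [Algebra A P] [Algebra A P']
          (a : P →ₐ[A] P') (z : P ⊗[A] B),
          Algebra.TensorProduct.map (AlgHom.id A P') u (a.toLinearMap.rTensor B z) =
            a.toLinearMap.rTensor C (Algebra.TensorProduct.map (AlgHom.id A P) u z) := by
        intro P P' _ _ _ _ a z
        induction z using TensorProduct.induction_on with
        | zero => simp
        | tmul g b => simp
        | add z w hz hw => simp [hz, hw]
      rw [hcomm (G i) R (oa i)] at hx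
      have h0 : (o i).rTensor C (Algebra.TensorProduct.map (AlgHom.id A (G i)) u y -
          (1 : G i) ⊗ₜ[A] c) = 0 := by
        rw [map_sub, LinearMap.rTensor_tmul, show o i 1 = 1 from map_one (oa i), sub_eq_zero]
        exact hx
      obtain ⟨j, hj, h⟩ := hzero C i _ h0
      refine ⟨j, fun k hk => ⟨(t j k hk).rTensor B ((t i j hj).rTensor B y), ?_⟩⟩
      rw [map_sub, sub_eq_zero, LinearMap.rTensor_tmul,
        show t i j hj 1 = 1 from map_one (ta i j hj)] at h
      have h' := congrArg ((t j k hk).rTensor C) h
      rw [LinearMap.rTensor_tmul, show t j k hk 1 = 1 from map_one (ta j k hk)] at h'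
      change Algebra.TensorProduct.map _ u ((ta j k hk).toLinearMap.rTensor B _) = _
      rw [hcomm _ _ (ta j k hk)]
      change (t j k hk).rTensor C (Algebra.TensorProduct.map _ u ((ta i j hj).toLinearMap.rTensor B y)) = _
      rw [hcomm _ _ (ta i j hj)]
      exact h'
    choose j hj using hc
    obtain ⟨m, hm⟩ := Finset.exists_le (s.image j)
    refine ⟨m, fun x => ?_⟩
    let Φ := Algebra.TensorProduct.map (AlgHom.id A (G m)) u
    have hle : Algebra.adjoin A (s : Set C) ≤
        Φ.range.comap (Algebra.TensorProduct.includeRight : C →ₐ[A] G m ⊗[A] C) :=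
      Algebra.adjoin_le fun c hc => hj c m (hm _ (Finset.mem_image_of_mem _ hc))
    change x ∈ Φ.range
    induction x using TensorProduct.induction_on with
    | zero => exact zero_mem _
    | tmul g c =>
      rw [show g ⊗ₜ[A] c = (g ⊗ₜ[A] (1:C)) * ((1 : G m) ⊗ₜ[A] c) by simp]
      exact mul_mem ⟨g ⊗ₜ 1, by simp [Φ]⟩ (hle (hs ▸ Algebra.mem_top : c ∈ Algebra.adjoin A (s : Set C)))
    | add x y hx hy => exact add_mem hx hy

end Groth.Agent.SmallH9f
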